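import Cfsg.Agent.Lib.LieId.F42A
import Cfsg.Agent.Lib.LieId.F42B
import Cfsg.Agent.Lib.Grp.F42.Main

set_option autoImplicit false
set_option maxRecDepth 100000
set_option Elab.async false

namespace Cfsg.Agent.LieId.F42

open Cfsg.Agent.CG Cfsg.Agent.CG.F42 Cfsg.Agent.Lin Cfsg.Agent.Id Cfsg.Agent.Forms Cfsg.Lie Matrix

theorem hi_0 : chkInj Lin.c2 (coD chevF4) [] 69615 24 vt 0 20000 = true := by decide +kernel

theorem hi_1 : chkInj Lin.c2 (coD chevF4) [] 69615 24 vt 20000 20000 = true := by decide +kernel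

theorem hi_2 : chkInj Lin.c2 (coD chevF4) [] 69615 24 vt 40000 20000 = true := by decide +kernel

theorem hi_3 : chkInj Lin.c2 (coD chevF4) [] 69615 24 vt 60000 9615 = true := by decide +kernel

theorem hi : chkInj Lin.c2 (coD chevF4) [] 69615 24 vt 0 69615 = true :=
  (rapp (chkInj Lin.c2 (coD chevF4) [] 69615 24 vt) (fun _ _ _ => allRange_append) 69615 (rapp (chkInj Lin.c2 (coD chevF4) [] 69615 24 vt) (fun _ _ _ => allRange_append) 60000 (rapp (chkInj Lin.c2 (coD chevF4) [] 69615 24 vt) (fun _ _ _ => allRange_append) 40000 hi_0 hi_1 rfl rfl) hi_2 rfl rfl) hi_3 rfl rfl)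

theorem hall : allLt (fun c => bor (memL c [0, 1]) (memL (inv c) [0, 1])) 3 = true := by decide +kernel

theorem hm : allLt (fun a => chkPow (Lin.c2.ad (coD chevF4).d) (coD chevF4).d (1 + 1) (nth F4R.G [] a)) 48 = true := by decide +kernel

theorem hla : chkW (Lin.c2.ad (coD chevF4).d) (Lin.c2.T * (coD chevF4).d) F4R.G [13,27,46,1,33,14,28,31,13,27,46,1,33,14,28,31,13,27,46,1,33,14,28,31,13,27,46,1,33,14,28,31,13,27,46,1,33,14,28,31] la = true := by decide +kernel

theorem hlb : chkW (Lin.c2.ad (coD chevF4).d) (Lin.c2.T * (coD chevF4).d) F4R.G [35,14,22,14,43,14,29,18,1] lb = true := by decide +kernel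

theorem hs : chkGen (Lin.c2.ad (coD chevF4).d) (coD chevF4).d app vt B ms (fun x => x) [] = true := by decide +kernel

theorem hW_0 : allRange (fun a => chkGen (Lin.c2.ad (coD chevF4).d) (coD chevF4).d app vt B ms (lin (Lin.c2.ad (coD chevF4).d) (nth F4R.G [] a)) (nth Ws [] a)) 0 12 = true := by decide +kernel

theorem hW_1 : allRange (fun a => chkGen (Lin.c2.ad (coD chevF4).d) (coD chevF4).d app vt B ms (lin (Lin.c2.ad (coD chevF4).d) (nth F4R.G [] a)) (nth Ws [] a)) 12 12 = true := by decide +kernel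

theorem hW_2 : allRange (fun a => chkGen (Lin.c2.ad (coD chevF4).d) (coD chevF4).d app vt B ms (lin (Lin.c2.ad (coD chevF4).d) (nth F4R.G [] a)) (nth Ws [] a)) 24 12 = true := by decide +kernel

theorem hW_3 : allRange (fun a => chkGen (Lin.c2.ad (coD chevF4).d) (coD chevF4).d app vt B ms (lin (Lin.c2.ad (coD chevF4).d) (nth F4R.G [] a)) (nth Ws [] a)) 36 12 = true := by decide +kernel

theorem hW : allRange (fun a => chkGen (Lin.c2.ad (coD chevF4).d) (coD chevF4).d app vt B ms (lin (Lin.c2.ad (coD chevF4).d) (nth F4R.G [] a)) (nth Ws [] a)) 0 48 = true :=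
  (rapp (allRange (fun a => chkGen (Lin.c2.ad (coD chevF4).d) (coD chevF4).d app vt B ms (lin (Lin.c2.ad (coD chevF4).d) (nth F4R.G [] a)) (nth Ws [] a))) (fun _ _ _ => allRange_append) 48 (rapp (allRange (fun a => chkGen (Lin.c2.ad (coD chevF4).d) (coD chevF4).d app vt B ms (lin (Lin.c2.ad (coD chevF4).d) (nth F4R.G [] a)) (nth Ws [] a))) (fun _ _ _ => allRange_append) 36 (rapp (allRange (fun a => chkGen (Lin.c2.ad (coD chevF4).d) (coD chevF4).d app vt B ms (lin (Lin.c2.ad (coD chevF4).d) (nth F4R.G [] a)) (nth Ws [] a))) (fun _ _ _ => allRange_append) 24 hW_0 hW_1 rfl rfl) hW_2 rfl rfl) hW_3 rfl rfl)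

theorem isoK : Nonempty (chevF4.group (ZMod 2) ≃* PG) :=
  have h := chev_gens chevF4 (ts := ([1] : List (ZMod 2))) (by decide) (by decide) (N := 48) rfl
  exists_iso_closure (P := fun A => ∃ r t, A = chevF4.xMat (ZMod 2) r t) tabOK hinv hi _ rfl (chkX_spec F4R.hX) h.1 h.2
    hm hla hlb ha hb hall (by decide +kernel) hs hW

theorem iso {F : Type*} [Field F] [Fintype F] (hF : Fintype.card F = 2) : Nonempty (PG ≃* chevF4.group F) :=
  isoK.map fun e => e.symm.trans (chevTrans (FiniteField.ringEquivOfCardEq ((ZMod.card 2).trans hF.symm)) _)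

end Cfsg.Agent.LieId.F42
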