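import Cfsg.Agent.Lib.LieId.F4RB

/-! The root elements of `F₄(2)` and the generators of `²F₄(2)`. -/

set_option autoImplicit false

namespace Cfsg.Agent.LieId.F4R

open Cfsg.Agent.CG Cfsg.Agent.Lin Cfsg.Lie

/-- The root elements. -/
noncomputable def g (a : ℕ) : Matrix chevF4.Idx chevF4.Idx (ZMod 2) :=
  chevF4.x (ZMod 2) (a / [(1 : ZMod 2)].length) ([1].getD (a % [(1 : ZMod 2)].length) 0)

theorem hG (a : ℕ) (ha : a < G.length) : CM c2 (coD chevF4) (g a) (nth G [] a) := chkX_spec hX a ha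

/-- The letters with a nonzero parameter. -/
def supp (w : List (ℕ × ZMod 2)) : List ℕ := (w.filter fun p => p.2 = 1).map Prod.fst

theorem wordMat_eq (w : List (ℕ × ZMod 2)) : chevF4.wordMat (ZMod 2) w = ev g (supp w) := by
  induction w with
  | nil => rfl
  | cons p w ih =>
    rw [ChevalleyDatum.wordMat, List.map_cons, List.prod_cons, ← ChevalleyDatum.wordMat, ih]
    obtain ⟨r, t⟩ := p
    rcases (by decide : ∀ t : ZMod 2, t = 0 ∨ t = 1) t with rfl | rfl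
    · have : chevF4.x (ZMod 2) r 0 = 1 := by unfold ChevalleyDatum.x; split_ifs <;> simp [xMat_zero]
      rw [this, one_mul]; rfl
    · simp [supp, g, Nat.mod_one]

/-- The nontrivial generating words. -/
def gw : List (List ℕ) := [[33, 24], [14, 23], [28, 30], [27, 25, 28], [27, 25, 30], [19, 17], [20, 22, 19], [20, 22, 17]]

theorem tw_gens : (∀ a, a < 8 → ∃ w ∈ f4Words (ZMod 2) 1, ev g (nth gw [] a) = chevF4.wordMat (ZMod 2) w) ∧
    ∀ A, (∃ w ∈ f4Words (ZMod 2) 1, A = chevF4.wordMat (ZMod 2) w) → A = 1 ∨ ∃ a, a < 8 ∧ A = ev g (nth gw [] a) := by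
  have h : ∀ v, (∃ w ∈ f4Words (ZMod 2) 1, supp w = v) ↔ v = [] ∨ ∃ a, a < 8 ∧ v = gw.getD a [] := fun v => by
    have h1 : ∀ v ∈ [] :: gw, ∃ t u : ZMod 2, ∃ w ∈ [f4PairWord 1 f4p1 f4p4 t, f4PairWord 1 f4m1 f4m4 t,
      b2ClassWord 1 f4a f4b f4ab f4aab t u, b2ClassWord 1 f4ma f4mb f4mab f4maab t u], supp w = v := by decide
    have h2 : ∀ t u : ZMod 2, ∀ w ∈ [f4PairWord 1 f4p1 f4p4 t, f4PairWord 1 f4m1 f4m4 t,
      b2ClassWord 1 f4a f4b f4ab f4aab t u, b2ClassWord 1 f4ma f4mb f4mab f4maab t u],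
      supp w = [] ∨ ∃ a, a < 8 ∧ supp w = gw.getD a [] := by decide
    constructor
    · rintro ⟨w, ⟨t, rfl | rfl⟩ | ⟨t, u, rfl | rfl⟩, rfl⟩
      exacts [h2 t 0 _ (by simp), h2 t 0 _ (by simp), h2 t u _ (by simp), h2 t u _ (by simp)]
    · intro hv
      obtain ⟨t, u, w, hw, e⟩ := h1 v (by
        rcases hv with rfl | ⟨a, ha, rfl⟩
        · simp
        · revert a; decide)
      refine ⟨w, ?_, e⟩
      simp only [List.mem_cons, List.not_mem_nil, or_false] at hw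
      rcases hw with rfl | rfl | rfl | rfl
      exacts [Or.inl ⟨t, Or.inl rfl⟩, Or.inl ⟨t, Or.inr rfl⟩, Or.inr ⟨t, u, Or.inl rfl⟩, Or.inr ⟨t, u, Or.inr rfl⟩]
  simp only [wordMat_eq, nth_eq]
  refine ⟨fun a ha => ?_, ?_⟩
  · obtain ⟨w, hw, e⟩ := (h _).2 (Or.inr ⟨a, ha, rfl⟩)
    exact ⟨w, hw, by rw [e]⟩
  · rintro _ ⟨w, hw, rfl⟩
    rcases (h _).1 ⟨w, hw, rfl⟩ with e | ⟨a, ha, e⟩
    · exact Or.inl (by rw [e]; rfl)
    · exact Or.inr ⟨a, ha, by rw [e]⟩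

end Cfsg.Agent.LieId.F4R
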