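import Cfsg.Agent.Lib.LieId.F4RA
import Cfsg.Agent.Lib.CG.Big2

set_option autoImplicit false
set_option maxRecDepth 100000
set_option Elab.async false

namespace Cfsg.Agent.LieId.F4R

open Cfsg.Agent.CG Cfsg.Agent.Lin Cfsg.Agent.Id Cfsg.Lie Matrix

theorem hX_12 : chkX Lin.c2 chevF4 [1] G 24 2 = true := by decide +kernel

theorem hX_13 : chkX Lin.c2 chevF4 [1] G 26 2 = true := by decide +kernel

theorem hX_14 : chkX Lin.c2 chevF4 [1] G 28 2 = true := by decide +kernel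

theorem hX_15 : chkX Lin.c2 chevF4 [1] G 30 2 = true := by decide +kernel

theorem hX_16 : chkX Lin.c2 chevF4 [1] G 32 2 = true := by decide +kernel

theorem hX_17 : chkX Lin.c2 chevF4 [1] G 34 2 = true := by decide +kernel

theorem hX_18 : chkX Lin.c2 chevF4 [1] G 36 2 = true := by decide +kernel

theorem hX_19 : chkX Lin.c2 chevF4 [1] G 38 2 = true := by decide +kernel

theorem hX_20 : chkX Lin.c2 chevF4 [1] G 40 2 = true := by decide +kernel

theorem hX_21 : chkX Lin.c2 chevF4 [1] G 42 2 = true := by decide +kernel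

theorem hX_22 : chkX Lin.c2 chevF4 [1] G 44 2 = true := by decide +kernel

theorem hX_23 : chkX Lin.c2 chevF4 [1] G 46 2 = true := by decide +kernel

theorem hX : chkX Lin.c2 chevF4 [1] G 0 48 = true :=
  (rapp (chkX Lin.c2 chevF4 [1] G) (fun _ _ _ => allRange_append) 48 (rapp (chkX Lin.c2 chevF4 [1] G) (fun _ _ _ => allRange_append) 46 (rapp (chkX Lin.c2 chevF4 [1] G) (fun _ _ _ => allRange_append) 44 (rapp (chkX Lin.c2 chevF4 [1] G) (fun _ _ _ => allRange_append) 42 (rapp (chkX Lin.c2 chevF4 [1] G) (fun _ _ _ => allRange_append) 40 (rapp (chkX Lin.c2 chevF4 [1] G) (fun _ _ _ => allRange_append) 38 (rapp (chkX Lin.c2 chevF4 [1] G) (fun _ _ _ => allRange_append) 36 (rapp (chkX Lin.c2 chevF4 [1] G) (fun _ _ _ => allRange_append) 34 (rapp (chkX Lin.c2 chevF4 [1] G) (fun _ _ _ => allRange_append) 32 (rapp (chkX Lin.c2 chevF4 [1] G) (fun _ _ _ => allRange_append) 30 (rapp (chkX Lin.c2 chevF4 [1] G) (fun _ _ _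 => allRange_append) 28 (rapp (chkX Lin.c2 chevF4 [1] G) (fun _ _ _ => allRange_append) 26 (rapp (chkX Lin.c2 chevF4 [1] G) (fun _ _ _ => allRange_append) 24 (rapp (chkX Lin.c2 chevF4 [1] G) (fun _ _ _ => allRange_append) 22 (rapp (chkX Lin.c2 chevF4 [1] G) (fun _ _ _ => allRange_append) 20 (rapp (chkX Lin.c2 chevF4 [1] G) (fun _ _ _ => allRange_append) 18 (rapp (chkX Lin.c2 chevF4 [1] G) (fun _ _ _ => allRange_append) 16 (rapp (chkX Lin.c2 chevF4 [1] G) (fun _ _ _ => allRange_append) 14 (rapp (chkX Lin.c2 chevF4 [1] G) (fun _ _ _ => allRange_append) 12 (rapp (chkX Lin.c2 chevF4 [1] G) (fun _ _ _ => allRange_append) 10 (rapp (chkX Lin.c2 chevF4 [1] G) (fun _ _ _ => allRange_append) 8 (rapp (chkX Lin.c2 chevF4 [1] G) (fun _ _ _ => allRange_append) 6 (rapp (chkX Lin.c2 chevF4 [1] G) (fun _ _ _ => allRange_append) 4 hX_0 hX_1 rfl rfl) hX_2 rfl rfl) hX_3 rfl rfl) hX_4 rfl rfl) hX_5 rfl rfl) hX_6 rfl rfl) hX_7 rfl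 rfl) hX_8 rfl rfl) hX_9 rfl rfl) hX_10 rfl rfl) hX_11 rfl rfl) hX_12 rfl rfl) hX_13 rfl rfl) hX_14 rfl rfl) hX_15 rfl rfl) hX_16 rfl rfl) hX_17 rfl rfl) hX_18 rfl rfl) hX_19 rfl rfl) hX_20 rfl rfl) hX_21 rfl rfl) hX_22 rfl rfl) hX_23 rfl rfl)

end Cfsg.Agent.LieId.F4R
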