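import Cfsg.Agent.Lib.Id.Basic

/-! Vectors over small fields coded by bit planes; matrix groups identified with table permutation groups. -/

set_option autoImplicit false

namespace Cfsg.Agent.Lin

open Cfsg.Agent.CG Cfsg.Agent.Id Matrix Finset

variable {K : Type} [Field K]

/-- The coordinate `n` of the code `x`: plane `t` has the weight `s t`. -/
def val (s : ℕ → K) (T d x n : ℕ) : K := ∑ t ∈ range T, if x.testBit (t * d + n) then s t else 0

/-- A field with a coding of vectors. -/
structure CF (K : Type) [Field K] where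
  T : ℕ
  H : ℕ
  s : ℕ → K
  ad : ℕ → ℕ → ℕ → ℕ
  T_pos : 0 < T
  s_zero : s 0 = 1
  had : ∀ d a b n, n < d → val s T d (ad d a b) n = val s T d a n + val s T d b n
  inj : ∀ u v : Fin T → Bool, (∀ t t' : Fin T, (t' : ℕ) = t + H → u t = true → u t' = false) →
    (∀ t t' : Fin T, (t' : ℕ) = t + H → v t = true → v t' = false) →
    (∑ t, if u t then s t else 0) = (∑ t, if v t then s t else 0) → u = v

/-- A numbering of the coordinates. -/
structure Co (ι : Type) where
  d : ℕ
  ix : ι → ℕ
  lt : ∀ i, ix i < d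
  inj : Function.Injective ix
  surj : ∀ n, n < d → ∃ i, ix i = n

/-- The combination of the columns selected by the bits of `x`. -/
noncomputable def lin (ad : ℕ → ℕ → ℕ) (l : List ℕ) (x : ℕ) : ℕ :=
  List.rec (motive := fun _ => ℕ → ℕ) (fun _ => 0) (fun c _ ih x => Bool.rec (motive := fun _ => ℕ)
    (ad c (ih (Nat.shiftRight x 1))) (ih (Nat.shiftRight x 1)) (Nat.beq (Nat.land x 1) 0)) l x

variable {ι : Type} [Fintype ι] [DecidableEq ι] (C : CF K) (I : Co ι)

/-- The vector with the code `x`. -/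
def dv (x : ℕ) : ι → K := fun i => val C.s C.T I.d x (I.ix i)

/-- The columns `l` code the matrix `A`. -/
def CM (A : Matrix ι ι K) (l : List ℕ) : Prop := ∀ x, A *ᵥ dv C I x = dv C I (lin (C.ad I.d) l x)

/-- Canonical codes. -/
noncomputable def canon (x : ℕ) : Bool :=
  band (blt x (Nat.pow 2 (Nat.mul C.T I.d))) (Nat.beq (Nat.land x (Nat.shiftRight x (Nat.mul C.H I.d))) 0)

/-- The matrix with the given columns. -/
def matOf (l : List ℕ) : Matrix ι ι K := Matrix.of fun i j => dv C I (l.getD (I.ix j) 0) i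

variable {C I}

omit [Fintype ι] [DecidableEq ι] in
theorem dv_lin (l : List ℕ) (x : ℕ) : dv C I (lin (C.ad I.d) l x) =
    ∑ k ∈ range l.length, if x.testBit k then dv C I (l.getD k 0) else 0 := by
  induction l generalizing x with
  | nil => funext i; simp [dv, val, lin]
  | cons c l ih =>
    have e : ∀ k, (Nat.shiftRight x 1).testBit k = x.testBit (k + 1) := fun k => by
      rw [Nat.shiftRight_eq, Nat.testBit_shiftRight, add_comm]
    have h := ih (Nat.shiftRight x 1)
    simp only [e] at h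
    rw [List.length_cons, sum_range_succ']
    simp only [List.getD_cons_succ, List.getD_cons_zero, ← h]
    change dv C I (Bool.rec (motive := fun _ => ℕ) (C.ad I.d c (lin _ l _)) (lin _ l _) _) = _
    by_cases h0 : x % 2 = 0
    · rw [show Nat.beq (Nat.land x 1) 0 = true by simpa using h0]
      simp [Nat.testBit_zero, h0]
    · rw [show Nat.beq (Nat.land x 1) 0 = false by rw [beq_false_iff]; simpa using h0]
      funext i
      have : x % 2 = 1 := by omega
      simp [Nat.testBit_zero, this, dv, C.had _ _ _ _ (I.lt i), add_comm]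

omit [Fintype ι] in
theorem dv_pow {t : ℕ} (ht : t < C.T) (j : ι) : dv C I (2 ^ (t * I.d + I.ix j)) = Pi.single j (C.s t) := by
  funext i
  have key : ∀ t', t * I.d + I.ix j = t' * I.d + I.ix i ↔ t' = t ∧ i = j := fun t' => by
    refine ⟨fun h => ?_, by rintro ⟨rfl, rfl⟩; rfl⟩
    have h1 := congrArg (· % I.d) h
    simp only [Nat.mul_add_mod_self_right, Nat.mod_eq_of_lt (I.lt _)] at h1
    rw [h1, add_left_inj] at h
    exact ⟨(Nat.eq_of_mul_eq_mul_right (Nat.zero_lt_of_lt (I.lt i)) h).symm, (I.inj h1).symm⟩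
  simp only [dv, val, Nat.testBit_two_pow, key, decide_eq_true_eq]
  by_cases h : i = j <;> simp [h, ht]

omit [Fintype ι] [DecidableEq ι] in
theorem dv_eq_sum (x : ℕ) :
    dv C I x = ∑ k ∈ range (C.T * I.d), if x.testBit k then dv C I (2 ^ k) else 0 := by
  funext i
  simp only [Finset.sum_apply, ite_apply, dv, val, Pi.zero_apply, Nat.testBit_two_pow, decide_eq_true_eq]
  symm
  calc _ = ∑ k ∈ range (C.T * I.d), ∑ t ∈ range C.T,
        if k = t * I.d + I.ix i then (if x.testBit k then C.s t else 0) else 0 :=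
        sum_congr rfl fun k _ => by split_ifs <;> simp
    _ = _ := by
      rw [sum_comm]
      refine sum_congr rfl fun t ht => ?_
      rw [sum_ite_eq', if_pos]
      have := I.lt i
      rw [mem_range] at ht ⊢
      nlinarith

theorem cm_of_basis {A : Matrix ι ι K} {l : List ℕ} (hl : l.length = C.T * I.d)
    (h : ∀ k, k < C.T * I.d → A *ᵥ dv C I (2 ^ k) = dv C I (l.getD k 0)) : CM C I A l := fun x => by
  rw [dv_lin, hl, dv_eq_sum x, mulVec_sum]
  refine sum_congr rfl fun k hk => ?_
  split_ifs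
  exacts [h k (mem_range.1 hk), mulVec_zero _]

theorem cm_of_entries {A : Matrix ι ι K} {l : List ℕ} (hl : l.length = C.T * I.d)
    (h : ∀ j, ∀ t : Fin C.T, ∀ i, A i j * C.s t = dv C I (l.getD (t * I.d + I.ix j) 0) i) : CM C I A l :=
  cm_of_basis hl fun k hk => by
    have hd : 0 < I.d := Nat.pos_of_ne_zero fun h => by simp [h] at hk
    obtain ⟨j, hj⟩ := I.surj _ (Nat.mod_lt k hd)
    have ht : k / I.d < C.T := Nat.div_lt_of_lt_mul (by rwa [mul_comm])
    have e : k = k / I.d * I.d + I.ix j := by rw [hj, Nat.div_add_mod']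
    rw [e, dv_pow ht, mulVec_single]
    exact funext fun i => h j ⟨_, ht⟩ i

theorem eq_of_basis {A B : Matrix ι ι K} (h : ∀ k, k < I.d → A *ᵥ dv C I (2 ^ k) = B *ᵥ dv C I (2 ^ k)) :
    A = B := by
  ext i j
  have := congrFun (h _ (I.lt j)) i
  rw [← zero_add (I.ix j), ← zero_mul I.d, dv_pow C.T_pos, C.s_zero] at this
  simpa using this

omit [Fintype ι] [DecidableEq ι] in
theorem dv_inj {a b : ℕ} (ha : canon C I a = true) (hb : canon C I b = true) (h : dv C I a = dv C I b) :
    a = b := by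
  simp only [canon, band_eq, blt_iff, beq_iff] at ha hb
  refine Nat.eq_of_testBit_eq fun k => ?_
  by_cases hk : k < C.T * I.d
  · have hd : 0 < I.d := Nat.pos_of_ne_zero fun h => by simp [h] at hk
    obtain ⟨j, hj⟩ := I.surj _ (Nat.mod_lt k hd)
    have ok : ∀ a : ℕ, Nat.land a (Nat.shiftRight a (Nat.mul C.H I.d)) = 0 → ∀ t t' : Fin C.T,
        (t' : ℕ) = t + C.H → a.testBit (t * I.d + I.ix j) = true → a.testBit (t' * I.d + I.ix j) = false :=
      fun a h t t' e h1 => by
        have := congrArg (Nat.testBit · (t * I.d + I.ix j)) h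
        simpa [h1, e, add_mul, add_comm, add_left_comm, add_assoc] using this
    have := C.inj (fun t => a.testBit (t * I.d + I.ix j)) (fun t => b.testBit (t * I.d + I.ix j)) (ok a ha.2)
      (ok b hb.2) (by simpa only [dv, val, sum_range] using congrFun h j)
    have := congrFun this ⟨k / I.d, Nat.div_lt_of_lt_mul (by rwa [mul_comm])⟩
    simpa only [hj, Nat.div_add_mod'] using this
  · have := Nat.pow_le_pow_right (n := 2) (by norm_num) (not_lt.mp hk)
    rw [Nat.testBit_lt_two_pow (lt_of_lt_of_le ha.1 this), Nat.testBit_lt_two_pow (lt_of_lt_of_le hb.1 this)]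

/-- Letters acting on codes. -/
noncomputable def appL (ad : ℕ → ℕ → ℕ) (G : List (List ℕ)) (a x : ℕ) : ℕ := lin ad (nth G [] a) x

theorem ev_mulVec {g : ℕ → Matrix ι ι K} {G : List (List ℕ)} {w : List ℕ}
    (h : ∀ a ∈ w, CM C I (g a) (nth G [] a)) (x : ℕ) :
    ev g w *ᵥ dv C I x = dv C I (evp (appL (C.ad I.d) G) w x) := by
  induction w with
  | nil => simp
  | cons a w ih =>
    rw [ev_cons, ← mulVec_mulVec, ih fun b hb => h b (by simp [hb]), h a (by simp)]
    rfl

/-- The columns `l` are those of the word `w`. -/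
noncomputable def chkW (ad : ℕ → ℕ → ℕ) (D : ℕ) (G : List (List ℕ)) (w l : List ℕ) : Bool :=
  band (Nat.beq l.length D) (band (allL (fun a => blt a G.length) w)
    (allLt (fun k => Nat.beq (evp (appL ad G) w (Nat.pow 2 k)) (nth l 0 k)) D))

theorem cm_word {g : ℕ → Matrix ι ι K} {G : List (List ℕ)} {w l : List ℕ}
    (h : ∀ a, a < G.length → CM C I (g a) (nth G [] a)) (hc : chkW (C.ad I.d) (C.T * I.d) G w l = true) :
    CM C I (ev g w) l := by
  simp only [chkW, band_eq, allL_iff, allLt_iff, beq_iff, blt_iff] at hc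
  exact cm_of_basis hc.1 fun k hk => by
    rw [ev_mulVec fun a ha => h a (hc.2.1 a ha), ← nth_eq, ← hc.2.2 k hk]; rfl

theorem CM.pow_eq_one {A : Matrix ι ι K} {l : List ℕ} (h : CM C I A l) {m : ℕ}
    (hc : allLt (fun k => Nat.beq (evp (appL (C.ad I.d) [l]) (List.replicate m 0) (Nat.pow 2 k)) (Nat.pow 2 k))
      I.d = true) : A ^ m = 1 := by
  refine eq_of_basis (C := C) (I := I) fun k hk => ?_
  have := ev_mulVec (g := fun _ => A) (G := [l]) (w := List.replicate m 0) (fun a ha => by
    rw [List.eq_of_mem_replicate ha]; exact h) (2 ^ k)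
  rw [show evp _ _ (2 ^ k) = 2 ^ k from (beq_iff _ _).1 ((allLt_iff _ _).1 hc k hk)] at this
  simpa [ev] using this

/-! ### The small fields -/

theorem val_xor (s : ℕ → K) (h2 : (2 : K) = 0) (T d a b n : ℕ) :
    val s T d (Nat.xor a b) n = val s T d a n + val s T d b n := by
  simp only [val, ← sum_add_distrib]
  refine sum_congr rfl fun t _ => ?_
  rw [Nat.xor_eq, Nat.testBit_xor]
  cases a.testBit _ <;> cases b.testBit _ <;> simp [← two_mul, h2]

/-- Addition in characteristic 3: the planes from `h` on hold the negative parts. -/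
def ad3 (h a b : ℕ) : ℕ :=
  (fun M => (fun a1 a2 b1 b2 => (fun c e => (fun ap am bp bm => (fun t =>
    Nat.lor (Nat.land (Nat.xor (Nat.lor am bm) t) M) (Nat.shiftLeft (Nat.xor (Nat.lor ap bp) t) h))
    (Nat.xor (Nat.lor ap bm) (Nat.lor am bp))) (Nat.xor a1 c) (Nat.xor a2 c) (Nat.xor b1 e) (Nat.xor b2 e))
    (Nat.land a1 a2) (Nat.land b1 b2)) (Nat.land a M) (Nat.shiftRight a h) (Nat.land b M) (Nat.shiftRight b h))
    (Nat.sub (Nat.pow 2 h) 1)

theorem val_ad3 (s : ℕ → K) (h3 : (3 : K) = 0) (e : ℕ) (hs : ∀ t, t < e → s (e + t) = - s t) (d a b n : ℕ)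
    (hn : n < d) : val s (e + e) d (ad3 (e * d) a b) n = val s (e + e) d a n + val s (e + e) d b n := by
  simp only [val, sum_range_add, ← sum_add_distrib]
  refine sum_congr rfl fun t ht => ?_
  rw [mem_range] at ht
  have h1 : t * d + n < e * d := by nlinarith
  have h2 : (e + t) * d + n = e * d + (t * d + n) := by ring
  have h4 : s t + s t = - s t := by linear_combination s t * h3
  have h5 : - s t + - s t = s t := by linear_combination - s t * h3
  rw [hs t ht, h2]
  generalize t * d + n = k at h1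
  simp only [ad3, Nat.lor_eq, Nat.land_eq, Nat.xor_eq, Nat.shiftLeft_eq', Nat.shiftRight_eq, Nat.sub_eq, Nat.pow_eq,
    Nat.testBit_or, Nat.testBit_and, Nat.testBit_xor, Nat.testBit_shiftLeft, Nat.testBit_shiftRight,
    Nat.testBit_two_pow_sub_one, h1, not_le.mpr h1, Nat.add_sub_cancel_left, ge_iff_le, Nat.le_add_right,
    show ¬ e * d + k < e * d by omega]
  cases a.testBit k <;> cases a.testBit (e * d + k) <;> cases b.testBit k <;> cases b.testBit (e * d + k) <;>
    simp [h4, h5]

instance : Fact (∀ r : ZMod 2, r ^ 2 ≠ 1 + 1 * r) := ⟨by decide⟩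
instance : Fact (∀ r : ZMod 3, r ^ 2 ≠ 2 + 0 * r) := ⟨by decide⟩

/-- The field with 4 elements. -/
abbrev F4 : Type := QuadraticAlgebra (ZMod 2) 1 1
/-- The field with 9 elements. -/
abbrev F9 : Type := QuadraticAlgebra (ZMod 3) 2 0

instance : DecidableEq F4 := (QuadraticAlgebra.equivProd _ _).decidableEq
instance : DecidableEq F9 := (QuadraticAlgebra.equivProd _ _).decidableEq
instance : Fintype F4 := Fintype.ofEquiv _ (QuadraticAlgebra.equivProd _ _).symm
instance : Fintype F9 := Fintype.ofEquiv _ (QuadraticAlgebra.equivProd _ _).symm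

/-- The coding over `ZMod 2`. -/
def c2 : CF (ZMod 2) := ⟨1, 1, fun _ => 1, fun _ => Nat.xor, by decide, rfl,
  fun d a b n _ => val_xor _ rfl _ d a b n, by decide⟩

/-- The coding over `F4`. -/
def c4 : CF F4 := ⟨2, 2, fun t => if t = 0 then 1 else ⟨0, 1⟩, fun _ => Nat.xor, by decide, rfl,
  fun d a b n _ => val_xor _ (by decide) _ d a b n, by decide⟩

/-- The coding over `ZMod 3`. -/
def c3 : CF (ZMod 3) := ⟨2, 1, fun t => if t = 0 then 1 else 2, fun d => ad3 (1 * d), by decide, rfl,
  val_ad3 _ rfl 1 (by decide), by decide⟩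

/-- The coding over `F9`. -/
def c9 : CF F9 := ⟨4, 2, fun t => [1, ⟨0, 1⟩, ⟨2, 0⟩, ⟨0, 2⟩].getD t 0, fun d => ad3 (2 * d), by decide, rfl,
  val_ad3 _ (by decide) 2 (by decide), by decide +kernel⟩

end Cfsg.Agent.Lin
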