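import Cfsg.Agent.Lib.LieId.Lin

/-! Matrix groups acting on coded vectors or lines, identified with table permutation groups. -/

set_option autoImplicit false

namespace Cfsg.Agent.Lin

open Cfsg.Agent.CG Cfsg.Agent.Id Matrix Finset

variable {K : Type} [Field K] {ι : Type} [Fintype ι] [DecidableEq ι] {C : CF K} {I : Co ι}
  {X : Type*} [Group X] {n w : ℕ} [NeZero n] {app : ℕ → ℕ → ℕ} {r k : ℕ} {partner : ℕ → ℕ}
  {slp : ℕ → Bool × List ℕ}

/-- The action on vectors. -/
@[reducible] def vecAct (ρ : X →* Matrix ι ι K) : MulAction X (ι → K) where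
  smul x v := ρ x *ᵥ v
  one_smul v := by change ρ 1 *ᵥ v = v; rw [map_one, one_mulVec]
  mul_smul x y v := by change ρ (x * y) *ᵥ v = ρ x *ᵥ ρ y *ᵥ v; rw [map_mul, mulVec_mulVec]

/-- The action on subspaces. -/
@[reducible] def subAct (ρ : X →* Matrix ι ι K) : MulAction X (Submodule K (ι → K)) where
  smul x S := S.map (toLin' (ρ x))
  one_smul S := by change S.map (toLin' (ρ 1)) = S; rw [map_one, toLin'_one, Submodule.map_id]
  mul_smul x y S := by
    change S.map (toLin' (ρ (x * y))) = (S.map _).map _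
    rw [map_mul, toLin'_mul, Submodule.map_comp]

variable (C I) in
/-- The codes are canonical, increasing, and least among their multiples. -/
noncomputable def chkInj (S : List (List ℕ)) (n w : ℕ) (vt : ℕ → ℕ) (lo cnt : ℕ) : Bool :=
  allRange (fun j => force (vt (Nat.mul w j)) fun x => band (canon C I x)
    (band (bor (Nat.ble n (Nat.succ j)) (blt x (vt (Nat.mul w (Nat.succ j)))))
      (allL (fun l => force (lin (C.ad I.d) l x) fun y => band (canon C I y) (Nat.ble x y)) S))) lo cnt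

/-- The columns `l` act on the points as the letter `a`, up to the multiples `S`. -/
noncomputable def chkReal (ad : ℕ → ℕ → ℕ) (S : List (List ℕ)) (w : ℕ) (app : ℕ → ℕ → ℕ) (vt : ℕ → ℕ) (a : ℕ)
    (l : List ℕ) (lo cnt : ℕ) : Bool :=
  allRange (fun j => force (Nat.mul w j) fun x => force (lin ad l (vt x)) fun y => force (vt (app a x)) fun z =>
    bor (Nat.beq y z) (anyL (fun s => Nat.beq y (lin ad s z)) S)) lo cnt

theorem code_perm (h : TabOK n w app r k partner slp) (v : List ℕ) (j : Fin n) :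
    w * ((ev h.act.gen v).1 j : ℕ) = evp app v (w * j) := by
  have h1 := h.act.ev_smul v (okc_mul (w := w) j)
  obtain ⟨i, hi, e⟩ := h.act.ok_evp v (okc_mul (w := w) j)
  change (ev h.act.gen v).1 (ptc n w _) = ptc n w (evp app v _) at h1
  change evp app v _ = _ at e
  rw [ptc_mul' h.w_pos, e, ptc_mul h.w_pos hi] at h1
  rw [h1, e]

theorem chkReal_spec (h : TabOK n w app r k partner slp) {S : List (List ℕ)} {vt : ℕ → ℕ} {a : ℕ} {l : List ℕ}
    {A : Matrix ι ι K} (hA : CM C I A l) (hc : chkReal (C.ad I.d) S w app vt a l 0 n = true) (j : Fin n) :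
    A *ᵥ dv C I (vt (w * j)) = dv C I (vt (w * permOf n w app a j)) ∨
      ∃ s ∈ S, A *ᵥ dv C I (vt (w * j)) = dv C I (lin (C.ad I.d) s (vt (w * permOf n w app a j))) := by
  have e : w * (permOf n w app a j : ℕ) = app a (w * j) := by
    have := code_perm h [a] j
    rwa [ev_singleton] at this
  simp only [chkReal, allRange_iff, force_eq, bor_eq, anyL_iff, beq_iff] at hc
  rw [hA, e]
  rcases hc j (Nat.zero_le _) (by simp) with h1 | ⟨s, hs, h1⟩
  exacts [Or.inl (congrArg _ h1), Or.inr ⟨s, hs, congrArg _ h1⟩]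

omit [Fintype ι] [DecidableEq ι] [NeZero n] in
theorem chkInj_spec {S : List (List ℕ)} {vt : ℕ → ℕ} (hc : chkInj C I S n w vt 0 n = true) :
    StrictMono (fun j : Fin n => vt (w * j)) ∧ ∀ j : Fin n, canon C I (vt (w * j)) = true ∧ ∀ s ∈ S,
      canon C I (lin (C.ad I.d) s (vt (w * j))) = true ∧ vt (w * j) ≤ lin (C.ad I.d) s (vt (w * j)) := by
  simp only [chkInj, allRange_iff, force_eq, bor_eq, band_eq, allL_iff, ble_iff, blt_iff] at hc
  refine ⟨?_, fun j => ⟨(hc j (Nat.zero_le _) (by simp)).1, (hc j (Nat.zero_le _) (by simp)).2.2⟩⟩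
  cases n with
  | zero => exact fun j => j.elim0
  | succ n =>
    exact Fin.strictMono_iff_lt_succ.mpr fun j =>
      (hc j (Nat.zero_le _) (by omega)).2.1.resolve_left (by have := j.2; simp only [Nat.succ_eq_add_one]; omega)

/-- The action on lines. -/
theorem exists_hom_lines [Finite X] (ρ : X →* Matrix ι ι K) (h : TabOK n w app r k partner slp) {inv : ℕ → ℕ}
    (hinv : ∀ a, h.act.gen (inv a) = (h.act.gen a)⁻¹) {S : List (List ℕ)} {vt : ℕ → ℕ}
    (hS : ∀ s ∈ S, ∃ c : K, c ≠ 0 ∧ CM C I (c • 1) s) (hS' : ∀ c : K, c ≠ 0 → ∃ s ∈ S, CM C I (c • 1) s)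
    (hi : chkInj C I S n w vt 0 n = true) (L : List ℕ)
    (hL : ∀ a ∈ L, ∃ x l, CM C I (ρ x) l ∧ chkReal (C.ad I.d) S w app vt a l 0 n = true)
    (hall : allLt (fun a => bor (memL a L) (memL (inv a) L)) r = true) (Z : Subgroup X)
    (hZ : ∀ z ∈ Z, ∃ c : K, c ≠ 0 ∧ ρ z = c • 1)
    (hN : Nat.card X ≤ Nat.card Z * Nat.card (tabGroup n w app r)) :
    ∃ f : X →* tabGroup n w app r, Function.Surjective f ∧ f.ker = Z ∧
      ∀ x (j : Fin n), (K ∙ ρ x *ᵥ dv C I (vt (w * j))) = K ∙ dv C I (vt (w * (f x).1 j)) := by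
  letI := subAct ρ
  have sm : ∀ (x : X) (v : ι → K), x • (K ∙ v) = K ∙ ρ x *ᵥ v := fun x v =>
    (Submodule.map_span _ _).trans (by simp)
  obtain ⟨h1, h2⟩ := chkInj_spec hi
  have le : ∀ i j : Fin n, (K ∙ dv C I (vt (w * i))) = (K ∙ dv C I (vt (w * j))) → vt (w * i) ≤ vt (w * j) :=
    fun i j e => by
      obtain ⟨c, hc⟩ := Submodule.span_singleton_eq_span_singleton.1 e
      obtain ⟨s, hs, h3⟩ := hS' c c.ne_zero
      have h4 := h3 (vt (w * i))
      rw [smul_mulVec, one_mulVec] at h4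
      rw [← dv_inj ((h2 i).2 s hs).1 (h2 j).1 (h4.symm.trans hc)]
      exact ((h2 i).2 s hs).2
  have hP : tabGroup n w app r ≤ realized X fun j : Fin n => K ∙ dv C I (vt (w * j)) :=
    tabGroup_le h hinv L (fun a ha => by
      obtain ⟨x, l, b1, b2⟩ := hL a ha
      refine ⟨x, fun j => (sm _ _).trans ?_⟩
      rcases chkReal_spec h b1 b2 j with e | ⟨s, hs, e⟩
      · rw [e]
      · obtain ⟨c, hc, b3⟩ := hS s hs
        rw [e, ← b3, smul_mulVec, one_mulVec, Submodule.span_singleton_smul_eq hc.isUnit]) hall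
  obtain ⟨f, a1, a2, a3⟩ := exists_hom_of_realized
    (fun i j e => h1.injective (le_antisymm (le i j e) (le j i e.symm))) hP Z (fun z hz j => by
      obtain ⟨c, hc, e⟩ := hZ z hz
      rw [sm, e, smul_mulVec, one_mulVec, Submodule.span_singleton_smul_eq hc.isUnit]) hN
  exact ⟨f, a1, a2, fun x j => (sm _ _).symm.trans (a3 x j)⟩

/-- `List.map` through the recursor. -/
noncomputable def mapN (f : ℕ → ℕ) (l : List ℕ) : List ℕ :=
  List.rec (motive := fun _ => List ℕ) [] (fun a _ ih => f a :: ih) l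

theorem mapN_eq (f : ℕ → ℕ) (l : List ℕ) : mapN f l = l.map f := by
  induction l with
  | nil => rfl
  | cons a l ih => exact congrArg (f a :: ·) ih

/-- The columns `l` act on the spanning points `B` as the word `v`. -/
noncomputable def chkGen (ad : ℕ → ℕ → ℕ) (d : ℕ) (app : ℕ → ℕ → ℕ) (vt : ℕ → ℕ) (B ms : List ℕ)
    (f : ℕ → ℕ) (v : List ℕ) : Bool :=
  allLt (fun k => Nat.beq (lin ad (mapN (fun b => vt (evp app v b)) B) (nth ms 0 k)) (f (Nat.pow 2 k))) d

/-- The action on vectors of a group given by generators. -/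
theorem exists_iso_vec (ρ : X →* Matrix ι ι K) (hρ : Function.Injective ρ) (h : TabOK n w app r k partner slp)
    {inv : ℕ → ℕ} (hinv : ∀ a, h.act.gen (inv a) = (h.act.gen a)⁻¹) {vt : ℕ → ℕ}
    (hi : chkInj C I [] n w vt 0 n = true) (L : List ℕ)
    (hL : ∀ a ∈ L, ∃ x l, CM C I (ρ x) l ∧ chkReal (C.ad I.d) [] w app vt a l 0 n = true)
    (hall : allLt (fun a => bor (memL a L) (memL (inv a) L)) r = true) {B ms : List ℕ}
    (hB : ∀ b ∈ B, okc n w b) (hs : chkGen (C.ad I.d) I.d app vt B ms (fun x => x) [] = true)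
    (g : ℕ → X) {G Ws : List (List ℕ)} (hG : ∀ a, a < G.length → CM C I (ρ (g a)) (nth G [] a))
    (hgen : ∀ H : Subgroup X, (∀ a, a < G.length → g a ∈ H) → H = ⊤)
    (hW : allLt (fun a => chkGen (C.ad I.d) I.d app vt B ms (lin (C.ad I.d) (nth G [] a)) (nth Ws [] a))
      G.length = true) :
    ∃ e : X ≃* tabGroup n w app r, (∀ x (j : Fin n), ρ x *ᵥ dv C I (vt (w * j)) = dv C I (vt (w * (e x).1 j))) ∧
      ∀ a, a < G.length → e (g a) = ev h.act.gen (nth Ws [] a) := by
  letI := vecAct ρ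
  obtain ⟨h1, h2⟩ := chkInj_spec hi
  have hpt : Function.Injective fun j : Fin n => dv C I (vt (w * j)) := fun i j e =>
    h1.injective (dv_inj (h2 i).1 (h2 j).1 e)
  have hP : tabGroup n w app r ≤ realized X fun j : Fin n => dv C I (vt (w * j)) :=
    tabGroup_le h hinv L (fun a ha => by
      obtain ⟨x, l, b1, b2⟩ := hL a ha
      exact ⟨x, fun j => (chkReal_spec h b1 b2 j).resolve_right (by simp)⟩) hall
  have key : ∀ (y : X) (v : List ℕ), (∀ j : Fin n, ρ y *ᵥ dv C I (vt (w * j)) =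
      dv C I (vt (w * (ev h.act.gen v).1 j))) → ∀ (x : X) (f : ℕ → ℕ), (∀ c, ρ x *ᵥ dv C I c = dv C I (f c)) →
      chkGen (C.ad I.d) I.d app vt B ms f v = true → y = x := fun y v hy x f hx hc =>
    hρ (eq_of_basis (C := C) (I := I) fun k hk => by
      simp only [chkGen, allLt_iff, beq_iff, mapN_eq] at hs hc
      have e1 : _ = 2 ^ k := hs k hk
      have e2 : _ = f (2 ^ k) := hc k hk
      rw [hx, ← e2, ← e1, dv_lin, dv_lin, mulVec_sum, List.length_map, List.length_map]
      refine sum_congr rfl fun i hi => ?_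
      split_ifs
      · rw [mem_range] at hi
        obtain ⟨j, hj, e⟩ := hB _ (List.getElem_mem hi)
        rw [List.getD_eq_getElem _ _ (by simpa), List.getD_eq_getElem _ _ (by simpa), List.getElem_map,
          List.getElem_map, e, ← code_perm h v ⟨j, hj⟩]
        exact hy ⟨j, hj⟩
      · exact mulVec_zero _)
  let R : Subgroup X :=
    { carrier := {x | ∃ σ : tabGroup n w app r, ∀ j : Fin n, x • dv C I (vt (w * j)) = dv C I (vt (w * σ.1 j))}
      one_mem' := ⟨1, fun j => one_smul _ _⟩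
      mul_mem' := by rintro x y ⟨σ, hx⟩ ⟨τ, hy⟩; exact ⟨σ * τ, fun j => by rw [mul_smul, hy, hx]; rfl⟩
      inv_mem' := by rintro x ⟨σ, hx⟩; exact ⟨σ⁻¹, fun j => by rw [inv_smul_eq_iff, hx]; simp⟩ }
  have hg : ∀ a, a < G.length → ∀ j : Fin n, g a • dv C I (vt (w * j)) =
      dv C I (vt (w * (ev h.act.gen (nth Ws [] a)).1 j)) := fun a ha => by
    obtain ⟨y, hy⟩ := hP (ev h.act.gen (nth Ws [] a)).2
    rwa [← key y _ hy _ _ (hG a ha) ((allLt_iff _ _).1 hW a ha)]
  have hR := hgen R fun a ha => ⟨_, hg a ha⟩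
  choose F hF using fun x : X => (hR ▸ Subgroup.mem_top x : x ∈ R)
  have hF' : Function.Injective F := fun x y e => inv_mul_eq_one.1
    (key _ [] (fun j => show (x⁻¹ * y) • dv C I (vt (w * j)) = dv C I (vt (w * j)) by
      rw [mul_smul, hF, ← e, ← hF, inv_smul_smul]) 1 _
      (fun c => by rw [map_one, one_mulVec]) hs)
  have := Finite.of_injective F hF'
  obtain ⟨e, he⟩ := exists_equiv_of_realized hpt hP (Nat.card_le_card_of_injective F hF')
  exact ⟨e, he, fun a ha => Subtype.ext (Equiv.ext fun j => hpt ((he _ j).symm.trans (hg a ha j)))⟩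

/-- The letters `St` fix `b` and no other point. -/
noncomputable def chkCen (n w : ℕ) (app : ℕ → ℕ → ℕ) (St : List ℕ) (b : ℕ) : Bool :=
  band (allL (fun a => Nat.beq (app a (Nat.mul w b)) (Nat.mul w b)) St)
    (allLt (fun j => force (Nat.mul w j) fun x => bor (Nat.beq j b) (anyL (fun a => bnot (Nat.beq (app a x) x)) St)) n)

theorem center_eq_bot (h : TabOK n w app r k partner slp) {l : Lvl} {L : List Lvl}
    (hC : ChainOK h.act (l :: L) []) (hN : l.N = n) {St : List ℕ} {b : ℕ} (hb : b < n)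
    (hc : chkCen n w app St b = true) : Subgroup.center (tabGroup n w app r) = ⊥ := by
  simp only [chkCen, band_eq, allL_iff, allLt_iff, force_eq, bor_eq, anyL_iff, bnot_eq, beq_iff,
    beq_false_iff] at hc
  have e : ∀ a (j : Fin n), w * ((h.act.gen a).1 j : ℕ) = app a (w * j) := fun a j => by
    have := code_perm h [a] j
    rwa [ev_singleton] at this
  refine eq_bot_iff.2 fun z hz => ?_
  have hz' : ∀ (g : tabGroup n w app r) j, g.1 (z.1 j) = z.1 (g.1 j) := fun g j =>
    congrArg (fun x : tabGroup n w app r => x.1 j) (Subgroup.mem_center_iff.1 hz g)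
  have h1 : z.1 ⟨b, hb⟩ = ⟨b, hb⟩ := by
    rcases hc.2 _ (z.1 ⟨b, hb⟩).2 with h2 | ⟨a, ha, h2⟩
    · exact Fin.ext h2
    · refine (h2 ((e a _).symm.trans ?_)).elim
      rw [hz', show (h.act.gen a).1 ⟨b, hb⟩ = ⟨b, hb⟩ from
        Fin.ext (Nat.eq_of_mul_eq_mul_left h.w_pos ((e a _).trans (hc.1 a ha)))]
      rfl
  refine Subtype.ext (Equiv.ext fun j => ?_)
  obtain ⟨g, hg, rfl⟩ := transitive_of_chain h hC hN ⟨b, hb⟩ j
  exact (hz' ⟨g, hg⟩ _).symm.trans (congrArg g h1)

theorem quot_center_iso {P : Type*} [Group P] (f : X →* P) (hf : Function.Surjective f)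
    (hk : f.ker ≤ Subgroup.center X) (hP : Subgroup.center P = ⊥) : Nonempty (X ⧸ Subgroup.center X ≃* P) := by
  have : Subgroup.center X = f.ker := le_antisymm (fun z hz => by
    rw [MonoidHom.mem_ker, ← Subgroup.mem_bot, ← hP, Subgroup.mem_center_iff]
    intro g
    obtain ⟨x, rfl⟩ := hf g
    rw [← map_mul, ← map_mul, Subgroup.mem_center_iff.1 hz]) hk
  exact ⟨(QuotientGroup.quotientMulEquivOfEq this).trans (QuotientGroup.quotientKerEquivOfSurjective f hf)⟩

end Cfsg.Agent.Lin
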