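import Cfsg.Agent.Lib.Forms.Concrete
import Cfsg.Prelude.Def_LieTwisted

/-! Transport of the matrix groups along field isomorphisms. -/

set_option autoImplicit false

namespace Cfsg.Agent.Lin

open Matrix Cfsg.Lie

/-- Corresponding subgroups. -/
def subEquiv {G G' : Type*} [Group G] [Group G'] (e : G ≃* G') {H : Subgroup G} {H' : Subgroup G'}
    (h : ∀ g, g ∈ H ↔ e g ∈ H') : H ≃* H' :=
  (e.subgroupMap H).trans (MulEquiv.subgroupCongr (Subgroup.ext fun g => by
    obtain ⟨g, rfl⟩ := e.surjective g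
    rw [← h]; exact Subgroup.mem_map_iff_mem e.injective))

variable {K F : Type*} [Field K] [Field F] (e : K ≃+* F) {ι : Type} [Fintype ι] [DecidableEq ι]

/-- Transport of `SL`. -/
def slEquiv : SpecialLinearGroup ι K ≃* SpecialLinearGroup ι F :=
  MonoidHom.toMulEquiv (SpecialLinearGroup.map e.toRingHom) (SpecialLinearGroup.map e.symm.toRingHom)
    (by ext; simp) (by ext; simp)

/-- Transport of `GL`. -/
def glEquiv : GL ι K ≃* GL ι F :=
  MonoidHom.toMulEquiv (GeneralLinearGroup.map e.toRingHom) (GeneralLinearGroup.map e.symm.toRingHom)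
    (by ext; simp) (by ext; simp)

theorem preserving_iff {H H' : Type*} [Group H] [Group H'] {ρ : H →* Matrix ι ι K} {ρ' : H' →* Matrix ι ι F}
    {f : (ι → K) → (ι → K) → K} {f' : (ι → F) → (ι → F) → F} (hf : ∀ u v, f' (e ∘ u) (e ∘ v) = e (f u v))
    {g : H} {g' : H'} (hg : ρ' g' = (ρ g).map e) : g ∈ preserving ρ f ↔ g' ∈ preserving ρ' f' := by
  have k : ∀ u, ρ' g' *ᵥ (e ∘ u) = e ∘ (ρ g *ᵥ u) := fun u => funext fun i => by
    rw [hg]; exact (RingHom.map_mulVec e.toRingHom _ _ i).symm
  refine ⟨fun h u v => ?_, fun h u v => e.injective ?_⟩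
  · rw [show u = e ∘ (e.symm ∘ u) by ext; simp, show v = e ∘ (e.symm ∘ v) by ext; simp, k, k, hf, hf, h]
  · rw [← hf, ← hf, ← k, ← k, h]

/-- Transport of `SU`. -/
def suTrans (n q : ℕ) : SU n K q ≃* SU n F q :=
  subEquiv (slEquiv e) fun _ => preserving_iff e (fun u v => by simp [hermForm]) rfl

/-- Transport of isometry groups. -/
def isoTrans {Q : (ι → K) → K} {Q' : (ι → F) → F} (h : ∀ u, Q' (e ∘ u) = e (Q u)) :
    isometryGroup K Q ≃* isometryGroup F Q' :=
  subEquiv (glEquiv e) fun _ => preserving_iff e (fun u _ => h u) rfl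

theorem sp_map (f : K →+* F) {A : Matrix (ι ⊕ ι) (ι ⊕ ι) K} (h : A ∈ symplecticGroup ι K) :
    f.mapMatrix A ∈ symplecticGroup ι F := by
  rw [SymplecticGroup.mem_iff] at h ⊢
  have := congrArg f.mapMatrix h
  rw [map_mul, map_mul] at this
  have hJ : f.mapMatrix (J ι K) = J ι F := by
    ext (i | i) (j | j) <;> simp [J, one_apply, apply_ite f]
  rwa [hJ] at this

/-- Transport of `Sp`. -/
def spTrans : symplecticGroup ι K ≃* symplecticGroup ι F where
  toFun A := ⟨_, sp_map e.toRingHom A.2⟩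
  invFun A := ⟨_, sp_map e.symm.toRingHom A.2⟩
  left_inv A := by ext; simp
  right_inv A := by ext; simp
  map_mul' A B := Subtype.ext (map_mul e.toRingHom.mapMatrix A.1 B.1)

theorem xMat_map (D : ChevalleyDatum) (f : K →+* F) (r : Fin D.nroots) (t : K) :
    (D.xMat K r t).map f = D.xMat F r (f t) := by
  ext (i | i) (j | j) <;>
    simp only [ChevalleyDatum.xMat, map_apply, of_apply] <;> split_ifs <;> simp [map_list_sum, Function.comp_def]

theorem xMat_zero (D : ChevalleyDatum) (r : Fin D.nroots) : D.xMat K r 0 = 1 := by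
  have h : ∀ s u, ((D.chainCoeff r s u).map fun km => ((km.2 : ℤ) : K) * 0 ^ km.1).sum = 0 := fun s u =>
    List.sum_eq_zero (by simp +contextual [ChevalleyDatum.chainCoeff, ← exists_and_right])
  ext (i | i) (j | j) <;>
    simp only [ChevalleyDatum.xMat, of_apply, h, one_apply] <;> split_ifs <;> simp_all

/-- Transport of Chevalley groups. -/
noncomputable def chevTrans (D : ChevalleyDatum) : D.group K ≃* D.group F :=
  ((glEquiv e).subgroupMap _).trans (MulEquiv.subgroupCongr (by
    rw [ChevalleyDatum.group, MonoidHom.map_closure]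
    congr 1
    ext g
    obtain ⟨g, rfl⟩ := (glEquiv e).surjective g
    refine (glEquiv e).injective.mem_set_image.trans <| exists_congr fun r => ⟨fun ⟨t, h⟩ => ⟨e t, ?_⟩, fun ⟨t, h⟩ => ⟨e.symm t, ?_⟩⟩
    · exact (congrArg (·.map e.toRingHom) h).trans (xMat_map D _ r t)
    · refine Eq.trans ?_ ((congrArg (·.map e.symm.toRingHom) h).trans (xMat_map D _ r t))
      ext; simp [glEquiv]))

end Cfsg.Agent.Lin
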