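import Cfsg.Agent.Lib.LieId.Lin2
import Cfsg.Agent.Lib.LieId.Trans
import Cfsg.Agent.Lib.Id.Cent

/-! Central quotients of matrix groups acting on lines; groups generated by matrices acting on vectors. -/

set_option autoImplicit false

namespace Cfsg.Agent.Lin

open Cfsg.Agent.CG Cfsg.Agent.Id Cfsg.Lie Matrix Finset

variable {K : Type} [Field K] {ι : Type} [Fintype ι] [DecidableEq ι] {C : CF K} {I : Co ι}
  {X : Type*} [Group X] {n w : ℕ} [NeZero n] {app : ℕ → ℕ → ℕ} {r k : ℕ} {partner : ℕ → ℕ}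
  {slp : ℕ → Bool × List ℕ}

variable (C I) in
/-- The columns `l` hold the entries of `A`. -/
def Ent (A : Matrix ι ι K) (l : List ℕ) : Prop :=
  l.length = C.T * I.d ∧ ∀ j, ∀ t : Fin C.T, ∀ i, A i j * C.s t = dv C I (l.getD (t * I.d + I.ix j) 0) i

instance decEnt [DecidableEq K] (A : Matrix ι ι K) (l : List ℕ) : Decidable (Ent C I A l) :=
  inferInstanceAs (Decidable (_ ∧ _))

theorem Ent.cm {A : Matrix ι ι K} {l : List ℕ} (h : Ent C I A l) : CM C I A l := cm_of_entries h.1 h.2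

/-- The `m`-th power of the matrix with the columns `l` is trivial. -/
noncomputable def chkPow (ad : ℕ → ℕ → ℕ) (d m : ℕ) (l : List ℕ) : Bool :=
  allLt (fun k => Nat.beq (evp (appL ad [l]) (List.replicate m 0) (Nat.pow 2 k)) (Nat.pow 2 k)) d

theorem det_eq_one [Fintype K] {A : Matrix ι ι K} {m : ℕ} (h : A ^ (m + 1) = 1)
    (hm : (m + 1).Coprime (Fintype.card K - 1)) : A.det = 1 := by
  have h1 : A.det ^ (m + 1) = 1 := by rw [← det_pow, h, det_one]
  have h2 := FiniteField.pow_card_sub_one_eq_one A.det (by rintro h0; simp [h0] at h1)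
  rw [← orderOf_eq_one_iff, ← Nat.dvd_one, ← hm]
  exact Nat.dvd_gcd (orderOf_dvd_of_pow_eq_one h1) (orderOf_dvd_of_pow_eq_one h2)

theorem iso_lines [Finite X] (ρ : X →* Matrix ι ι K) (hρ : Function.Injective ρ)
    (h : TabOK n w app r k partner slp) {inv : ℕ → ℕ} (hinv : ∀ a, h.act.gen (inv a) = (h.act.gen a)⁻¹)
    {S : List (List ℕ)} {vt : ℕ → ℕ} (hS : ∀ s ∈ S, ∃ c : K, c ≠ 0 ∧ Ent C I (c • 1) s)
    (hS' : ∀ c : K, c ≠ 0 → ∃ s ∈ S, Ent C I (c • 1) s) (hi : chkInj C I S n w vt 0 n = true) {a b : ℕ}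
    {la lb : List ℕ} (x y : X) (hx : CM C I (ρ x) la) (hy : CM C I (ρ y) lb)
    (ha : chkReal (C.ad I.d) S w app vt a la 0 n = true) (hb : chkReal (C.ad I.d) S w app vt b lb 0 n = true)
    (hall : allLt (fun c => bor (memL c [a, b]) (memL (inv c) [a, b])) r = true) (z : X) {c : K}
    (hz : ρ z = c • 1) (hN : Nat.card X ≤ orderOf z * Nat.card (tabGroup n w app r))
    (hC : Subgroup.center (tabGroup n w app r) = ⊥) [Nonempty ι] :
    Nonempty (X ⧸ Subgroup.center X ≃* tabGroup n w app r) := by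
  have hs : ∀ u ∈ Subgroup.zpowers z, ∃ c : K, ρ u = c • 1 := fun u hu => by
    obtain ⟨m, rfl⟩ := (Submonoid.mem_powers_iff _ _).1 (mem_powers_iff_mem_zpowers.2 hu)
    exact ⟨c ^ m, by rw [map_pow, hz, smul_pow, one_pow]⟩
  obtain ⟨f, h1, h2, -⟩ := exists_hom_lines ρ h hinv (fun s hs => (hS s hs).imp fun c h => ⟨h.1, h.2.cm⟩)
    (fun c hc => (hS' c hc).imp fun s h => ⟨h.1, h.2.cm⟩) hi [a, b]
    (by simpa using ⟨⟨x, la, hx, ha⟩, y, lb, hy, hb⟩) hall (Subgroup.zpowers z) (fun u hu => by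
      obtain ⟨c, hc⟩ := hs u hu
      refine ⟨c, ?_, hc⟩
      rintro rfl
      have := map_mul ρ u u⁻¹
      simp [hc] at this) (by rwa [Nat.card_zpowers])
  refine quot_center_iso f h1 (h2 ▸ fun u hu => Subgroup.mem_center_iff.2 fun g => hρ ?_) hC
  obtain ⟨c, hc⟩ := hs u hu
  simp [hc]

theorem exists_iso_closure {P : Matrix ι ι K → Prop} (h : TabOK n w app r k partner slp) {inv : ℕ → ℕ}
    (hinv : ∀ a, h.act.gen (inv a) = (h.act.gen a)⁻¹) {vt : ℕ → ℕ} (hi : chkInj C I [] n w vt 0 n = true)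
    (M : ℕ → Matrix ι ι K) {G Ws : List (List ℕ)} {N : ℕ} (hN : G.length = N)
    (hG : ∀ a, a < N → CM C I (M a) (nth G [] a))
    (hP : ∀ a, a < N → P (M a)) (hP' : ∀ A, P A → A = 1 ∨ ∃ a, a < N ∧ A = M a) {m : ℕ}
    (hm : allLt (fun a => chkPow (C.ad I.d) I.d (m + 1) (nth G [] a)) N = true) {a b : ℕ}
    {la lb va vb : List ℕ} (hx : chkW (C.ad I.d) (C.T * I.d) G va la = true)
    (hy : chkW (C.ad I.d) (C.T * I.d) G vb lb = true)
    (ha : chkReal (C.ad I.d) [] w app vt a la 0 n = true) (hb : chkReal (C.ad I.d) [] w app vt b lb 0 n = true)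
    (hall : allLt (fun c => bor (memL c [a, b]) (memL (inv c) [a, b])) r = true) {B ms : List ℕ}
    (hB : okcb n w B = true) (hs : chkGen (C.ad I.d) I.d app vt B ms (fun x => x) [] = true)
    (hW : allRange (fun a => chkGen (C.ad I.d) I.d app vt B ms (lin (C.ad I.d) (nth G [] a)) (nth Ws [] a))
      0 N = true) :
    Nonempty (Subgroup.closure {g : GL ι K | P g} ≃* tabGroup n w app r) := by
  subst hN
  let g : ℕ → Subgroup.closure {g : GL ι K | P g} := fun a => if ha : a < G.length then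
    ⟨Units.ofPowEqOne (M a) _ ((hG a ha).pow_eq_one ((allLt_iff _ _).1 hm a ha)) m.succ_ne_zero,
      Subgroup.subset_closure (hP a ha)⟩ else 1
  let ρ := (Units.coeHom (Matrix ι ι K)).comp (Subgroup.closure {g : GL ι K | P g}).subtype
  have e : ∀ a, a < G.length → ρ (g a) = M a := fun a ha => by simp only [g, dif_pos ha]; rfl
  have hg : ∀ a, a < G.length → CM C I (ρ (g a)) (nth G [] a) := fun a ha => (e a ha).symm ▸ hG a ha
  have hρ : Function.Injective ρ := Units.val_injective.comp Subtype.val_injective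
  have hw : ∀ {v l}, chkW (C.ad I.d) (C.T * I.d) G v l = true → CM C I (ρ (ev g v)) l := fun hc => by
    rw [map_ev]; exact cm_word hg hc
  refine (exists_iso_vec ρ hρ h hinv hi [a, b] (List.forall_mem_cons.2 ⟨⟨_, _, hw hx, ha⟩,
    List.forall_mem_singleton.2 ⟨_, _, hw hy, hb⟩⟩) hall
    (okc_of_okcb hB) hs g hg (fun H hH => ?_) (allLt_of_allRange hW)).nonempty
  rw [eq_top_iff, ← Subgroup.closure_closure_coe_preimage, Subgroup.closure_le]
  intro x hx
  rcases hP' _ hx with h1 | ⟨a, ha, h1⟩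
  · exact (hρ (h1.trans (map_one ρ).symm) : x = 1) ▸ H.one_mem
  · exact (hρ (h1.trans (e a ha).symm) : x = g a) ▸ hH a ha

theorem card_F4 : Fintype.card F4 = 2 ^ 2 := by decide

theorem card_F9 : Fintype.card F9 = 3 ^ 2 := by decide

/-- The numbering of `Fin d`. -/
def coF (d : ℕ) : Co (Fin d) := ⟨d, Fin.val, Fin.is_lt, Fin.val_injective, fun n h => ⟨⟨n, h⟩, rfl⟩⟩

/-- The numbering of a sum. -/
def Co.sum {α β : Type} (A : Co α) (B : Co β) : Co (α ⊕ β) where
  d := A.d + B.d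
  ix := Sum.elim A.ix fun i => A.d + B.ix i
  lt := by
    rintro (i | i)
    · exact (A.lt i).trans_le (Nat.le_add_right _ _)
    · exact Nat.add_lt_add_left (B.lt i) _
  inj := by
    rintro (i | i) (j | j) h <;> simp only [Sum.elim_inl, Sum.elim_inr] at h
    · rw [A.inj h]
    · have := A.lt i; omega
    · have := A.lt j; omega
    · rw [B.inj (Nat.add_left_cancel h)]
  surj n h := by
    by_cases h' : n < A.d
    · obtain ⟨i, hi⟩ := A.surj n h'
      exact ⟨.inl i, hi⟩
    · obtain ⟨i, hi⟩ := B.surj (n - A.d) (by omega)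
      exact ⟨.inr i, by simp only [Sum.elim_inr]; omega⟩

/-- The numbering of `Unit`. -/
def coU : Co Unit := ⟨1, fun _ => 0, fun _ => one_pos, fun _ _ _ => rfl, fun n h => ⟨(), by omega⟩⟩

/-- The numbering of the coordinates of the adjoint module. -/
def coD (D : ChevalleyDatum) : Co D.Idx := (coF D.rank).sum (coF D.nroots)

theorem chev_gens (D : ChevalleyDatum) {ts : List K} (ht : ∀ t, t = 0 ∨ t ∈ ts) (h0 : 0 < ts.length) {N : ℕ}
    (hN : D.nroots * ts.length = N) : (∀ a, a < N →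
      ∃ r t, D.x K (a / ts.length) (ts.getD (a % ts.length) 0) = D.xMat K r t) ∧
    ∀ A, (∃ r t, A = D.xMat K r t) → A = 1 ∨
      ∃ a, a < N ∧ A = D.x K (a / ts.length) (ts.getD (a % ts.length) 0) := by
  subst hN
  refine ⟨fun a ha => ⟨⟨_, Nat.div_lt_of_lt_mul (by rwa [mul_comm])⟩, _, dif_pos _⟩, ?_⟩
  rintro _ ⟨r, t, rfl⟩
  rcases ht t with rfl | h1
  · exact Or.inl (xMat_zero D r)
  · obtain ⟨i, hi, rfl⟩ := List.getElem_of_mem h1
    refine Or.inr ⟨r * ts.length + i, by nlinarith [r.2], ?_⟩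
    rw [Nat.mul_add_mod_self_right, Nat.mod_eq_of_lt hi, mul_comm, Nat.mul_add_div h0, Nat.div_eq_of_lt hi,
      List.getD_eq_getElem _ _ hi, add_zero, ChevalleyDatum.x, dif_pos r.2]

variable (C) in
/-- The columns `G` hold the root elements. -/
noncomputable def chkX [DecidableEq K] (D : ChevalleyDatum) (ts : List K) (G : List (List ℕ)) (lo cnt : ℕ) : Bool :=
  allRange (fun a => decide (Ent C (coD D) (D.x K (a / ts.length) (ts.getD (a % ts.length) 0)) (nth G [] a))) lo cnt

theorem chkX_spec [DecidableEq K] {D : ChevalleyDatum} {ts : List K} {G : List (List ℕ)} {N : ℕ}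
    (h : chkX C D ts G 0 N = true) (a : ℕ) (ha : a < N) :
    CM C (coD D) (D.x K (a / ts.length) (ts.getD (a % ts.length) 0)) (nth G [] a) :=
  (of_decide_eq_true ((allRange_iff _ _ _).1 h a (Nat.zero_le _) (by omega))).cm

theorem iso_step {T : Type} [Fintype T] [DecidableEq K] [Finite K] {Q : (ι → K) → K} (mk : T → ι → K)
    (hs : Function.Surjective mk) {L : List (ι → K)} (b : ι → K) {m N : ℕ}
    (h : b ≠ 0 ∧ (univ.filter fun t => (∀ u ∈ L, Q (u + mk t) = Q (u + b)) ∧ Q (mk t) = Q b ∧ mk t ≠ 0).card ≤ m)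
    (hN : Nat.card (fixL (isometryGroup K Q) (b :: L)) ≤ N) : Nat.card (fixL (isometryGroup K Q) L) ≤ m * N := by
  refine card_fixL_le b (S := {v | (∀ u ∈ L, Q (u + v) = Q (u + b)) ∧ Q v = Q b ∧ v ≠ 0}) ⟨Set.toFinite _, ?_⟩
    (fun g hg => ⟨fun u hu => ?_, g.2 b b, fun h1 => h.1 ?_⟩) hN
  · refine le_trans ?_ h.2
    rw [← Set.ncard_coe_finset]
    refine (Set.ncard_le_ncard (t := mk '' _) (fun v hv => ?_)).trans Set.ncard_image_le
    obtain ⟨t, rfl⟩ := hs v
    exact ⟨t, by simpa using hv, rfl⟩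
  · conv_lhs => rw [← hg u hu]
    exact (congrArg Q (mulVec_add _ _ _).symm).trans (g.2 (u + b) b)
  · rw [← inv_smul_smul g b, h1]; exact mulVec_zero _

theorem iso_last {Q : (ι → K) → K} {L : List (ι → K)} (hL : ∀ i, Pi.single i 1 ∈ L) :
    Nat.card (fixL (isometryGroup K Q) L) ≤ 1 :=
  card_fixL_le_one fun g hg => Subtype.ext (Units.ext (by
    ext i j
    have : _ *ᵥ _ = _ := hg _ (hL j)
    rw [mulVec_single_one] at this
    exact (congrFun this i).trans (by simp [one_apply, Pi.single_apply])))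

theorem two_mul_card_le {G : Type*} [Group G] [Finite G] {H H' : Subgroup G} (h : H ≤ H') {x : G} (h1 : x ∈ H')
    (h2 : x ∉ H) : 2 * Nat.card H ≤ Nat.card H' := by
  obtain ⟨c, hc⟩ := Subgroup.card_dvd_of_le h
  have h3 : c ≠ 0 := fun h0 => Nat.card_pos.ne' (hc.trans (by rw [h0, mul_zero]))
  have h4 : c ≠ 1 := fun h0 => h2 (Subgroup.eq_of_le_of_card_ge h (by rw [hc, h0, mul_one]) ▸ h1)
  rw [hc, mul_comm]
  exact Nat.mul_le_mul_left _ (by omega)

theorem herm_of_cols {d q : ℕ} (σ : K →+* K) (hσ : ∀ x, σ x = x ^ q) {A : Matrix (Fin d) (Fin d) K}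
    (h : Aᵀ * A.map σ = 1) (u v : Fin d → K) : hermForm d K q (A *ᵥ u) (A *ᵥ v) = hermForm d K q u v := by
  have e : ∀ u v : Fin d → K, hermForm d K q u v = u ⬝ᵥ (σ ∘ v) := fun u v => by simp [hermForm, dotProduct, hσ]
  have e2 : σ ∘ (A *ᵥ v) = A.map σ *ᵥ (σ ∘ v) := funext fun i => RingHom.map_mulVec σ A v i
  rw [e, e, e2, ← vecMul_transpose, dotProduct_mulVec, vecMul_vecMul, h, vecMul_one]

/-- The letter `a` acts as the commutator of the letters `x` and `y` of another table. -/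
noncomputable def chkComm (n w : ℕ) (app app' : ℕ → ℕ → ℕ) (inv : ℕ → ℕ) (a x y : ℕ) : Bool :=
  allLt (fun j => force (Nat.mul w j) fun c => Nat.beq (app' a c) (evp app [x, y, inv x, inv y] c)) n

theorem comm_iso (h : TabOK n w app r k partner slp) {inv : ℕ → ℕ}
    (hinv : ∀ a, h.act.gen (inv a) = (h.act.gen a)⁻¹) {app' : ℕ → ℕ → ℕ} {r' k' : ℕ} {partner' : ℕ → ℕ}
    {slp' : ℕ → Bool × List ℕ} (h' : TabOK n w app' r' k' partner' slp') {inv' : ℕ → ℕ}
    (hinv' : ∀ a, h'.act.gen (inv' a) = (h'.act.gen a)⁻¹) {a b x y u v : ℕ}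
    (hall : allLt (fun c => bor (memL c [a, b]) (memL (inv' c) [a, b])) r' = true)
    (ha : chkComm n w app app' inv a x y = true) (hb : chkComm n w app app' inv b u v = true)
    (hc : Nat.card (tabGroup n w app r) = Nat.card (tabGroup n w app' r') * 2) :
    Nonempty (commutator (tabGroup n w app r) ≃* tabGroup n w app' r') := by
  have key : ∀ {a x y}, chkComm n w app app' inv a x y = true →
      permOf n w app' a ∈ (commutator (tabGroup n w app r)).map (tabGroup n w app r).subtype := fun {a x y} hc => by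
    refine ⟨ev h.act.gen [x, y, inv x, inv y], ?_, Equiv.ext fun j => Fin.ext ?_⟩
    · simpa [ev, hinv, commutator_def, commutatorElement_def, mul_assoc] using
        Subgroup.commutator_mem_commutator (Subgroup.mem_top (h.act.gen x)) (Subgroup.mem_top (h.act.gen y))
    · simp only [chkComm, allLt_iff, force_eq, beq_iff] at hc
      have h2 := code_perm h' [a] j
      rw [ev_singleton] at h2
      exact Nat.eq_of_mul_eq_mul_left h.w_pos ((code_perm h _ j).trans ((hc j j.2).symm.trans h2.symm))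
  have h1 := tabGroup_le h' hinv' [a, b] (List.forall_mem_cons.2 ⟨key ha, List.forall_mem_singleton.2 (key hb)⟩) hall
  have h2 := h1.trans (Subgroup.map_subtype_le _)
  have h3 : ((tabGroup n w app' r').subgroupOf (tabGroup n w app r)).index = 2 := by
    have := ((tabGroup n w app' r').subgroupOf (tabGroup n w app r)).card_mul_index
    rw [hc, Nat.card_congr (Subgroup.subgroupOfEquivOfLe h2).toEquiv] at this
    exact Nat.eq_of_mul_eq_mul_left Nat.card_pos this
  have h4 : commutator (tabGroup n w app r) = (tabGroup n w app' r').subgroupOf (tabGroup n w app r) := by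
    refine le_antisymm (Subgroup.commutator_le.2 fun g _ g' _ => ?_) fun g hg => ?_
    · simp only [commutatorElement_def, Subgroup.mul_mem_iff_of_index_two h3, inv_mem_iff]
      tauto
    · exact (Subgroup.mem_map_iff_mem Subtype.val_injective).1 (h1 hg)
  exact ⟨(MulEquiv.subgroupCongr h4).trans (Subgroup.subgroupOfEquivOfLe h2)⟩

end Cfsg.Agent.Lin
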