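import Cfsg.Agent.Lib.LieId.Class
import Cfsg.Agent.Lib.Grp.O73.Main

set_option autoImplicit false
set_option maxRecDepth 100000
set_option Elab.async false

namespace Cfsg.Agent.LieId.O73

open Cfsg.Agent.CG Cfsg.Agent.CG.O73 Cfsg.Agent.Lin Cfsg.Agent.Id Cfsg.Agent.Forms Cfsg.Lie Matrix

noncomputable def vtT : ℕ := nat_lit 0x1f401ec01e411dc01d411cc61c471c441c421bc81b491ac21a4a1a431a4019c4194c1945194018cc18ca18c0184d184b18481846184117c0174116d016c216c0165216511643164115d415551550154414d2145414531446144413d013581351134012da125b12501242124011d811cc11c011591154114d1148114110dc10d610d010ce10cc10c210c0105e105d1058105710521051104f104d104a1048104310410fc00fa00f410f210ee20e630e600e420e220de00dc40dc00d640d610d450d410d200ce40ca60ca00c650c620c460c420c270c240c210be00ba80ba00b680b610b400b290b210ae80aca0ac00a690a620a4b0a480a410a2a0a2209ec096d0960094409400928092008ea08e608e008ce08ca08c408c008ae08a808a608a0086e086b0868086708640861084f084c084b084808450841082f082c082908270824082107f0077107600750073006d206b20690067006620660065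306330612061105e405b405a0057005650554055005350524052104f404f204e604e404d604d204b004a204a00494049004760475047304670465045704530434043204310426042404230421041604150412041103e803d803c003880370036903590348034103380330030902f802f202ea02e802d002c202c002ba02b202980290028a0288027a02790273026b0269025802520251024a024802430241023b0233021a021902120211020b020901f801f401e001dc01d801c401c001bc01b401a801a0018c01880184017c01790175016801640161015d0159014c014801450141013d0135012c012901240121010d0109010500fe00f000e200e000d400d000c600c400c200c000b800b000aa00a800a200a0009c009800940090008e008c008a0088008600840082007f0078007400720071006a00680066006400630061005c00580056005500520051004e004c004a00480047004500430041003c003a0039003400320031002e002c002b00290026002400230021001e001d001a00190016001500120011000f000d000b00090007000500030001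
noncomputable def vt (x : ℕ) : ℕ := Nat.land (Nat.shiftRight vtT (Nat.mul x 1)) 16383
def la : List ℕ := [2976,12553,736,7488,4944,70,4880,4119,1250,12293,8250,10278,8960,2086]
def lb : List ℕ := [2920,5393,4440,7874,3016,2754,2405,13334,2218,11298,8509,9239,8469,12946]
def S : List (List ℕ) := [[1,2,4,8,16,32,64,128,256,512,1024,2048,4096,8192],
  [128,256,512,1024,2048,4096,8192,1,2,4,8,16,32,64]]

theorem hi : chkInj Lin.c3 (coU.sum ((coF 3).sum (coF 3))) S 378 16 vt 0 378 = true := by decide +kernel

theorem ha : chkReal (Lin.c3.ad (coU.sum ((coF 3).sum (coF 3))).d) S 16 app vt 0 la 0 378 = true := by decide +kernel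

theorem hb : chkReal (Lin.c3.ad (coU.sum ((coF 3).sum (coF 3))).d) S 16 app vt 2 lb 0 378 = true := by decide +kernel

theorem hall : allLt (fun c => bor (memL c [0, 2]) (memL (inv c) [0, 2])) 4 = true := by decide +kernel

theorem cen : Subgroup.center PG = ⊥ :=
  center_eq_bot tabOK chain rfl (St := [20]) (b := 2) (by decide) (by decide +kernel)

theorem hS : ∀ s ∈ S, ∃ c : (ZMod 3), c ≠ 0 ∧ Ent Lin.c3 (coU.sum ((coF 3).sum (coF 3))) (c • 1) s := by decide +kernel

theorem hS' : ∀ c : (ZMod 3), c ≠ 0 → ∃ s ∈ S, Ent Lin.c3 (coU.sum ((coF 3).sum (coF 3))) (c • 1) s := by decide +kernel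

theorem cardO : Nat.card (isometryGroup (ZMod 3) (quadFormOdd 3 (ZMod 3))) ≤ 18341406720 :=
  card_le_fixL (iso_step mk7 mk7_surj (mk7 (0, 1, 0, 0, 0, 0, 0)) (m := 728) (by decide +kernel)
    (iso_step mk7 mk7_surj (mk7 (0, 0, 0, 0, 1, 0, 0)) (m := 243) (by decide +kernel)
    (iso_step mk7 mk7_surj (mk7 (0, 0, 1, 0, 0, 0, 0)) (m := 80) (by decide +kernel)
    (iso_step mk7 mk7_surj (mk7 (0, 0, 0, 0, 0, 1, 0)) (m := 27) (by decide +kernel)
    (iso_step mk7 mk7_surj (mk7 (0, 0, 0, 1, 0, 0, 0)) (m := 8) (by decide +kernel)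
    (iso_step mk7 mk7_surj (mk7 (0, 0, 0, 0, 0, 0, 1)) (m := 3) (by decide +kernel)
    (iso_step mk7 mk7_surj (mk7 (1, 0, 0, 0, 0, 0, 0)) (m := 2) (by decide +kernel)
    (iso_last (by decide +kernel)))))))))

theorem qla : ∀ t, (oddForm 3 (ZMod 3)).Q (matOf Lin.c3 (coU.sum ((coF 3).sum (coF 3))) la *ᵥ mk7 t) = (oddForm 3 (ZMod 3)).Q (mk7 t) := by decide +kernel

theorem qlb : ∀ t, (oddForm 3 (ZMod 3)).Q (matOf Lin.c3 (coU.sum ((coF 3).sum (coF 3))) lb *ᵥ mk7 t) = (oddForm 3 (ZMod 3)).Q (mk7 t) := by decide +kernel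

theorem isoK : Nonempty (POmega (ZMod 3) (quadFormOdd 3 (ZMod 3)) ≃* PG) := by
  obtain ⟨x, hx⟩ := exists_om (oddForm_nondeg 3 (by decide)) (by decide) mk7_surj (by exact (by decide +kernel)) 6 (by exact (by decide +kernel)) (by decide) qla
  obtain ⟨y, hy⟩ := exists_om (oddForm_nondeg 3 (by decide)) (by decide) mk7_surj (by exact (by decide +kernel)) 12 (by exact (by decide +kernel)) (by decide) qlb
  have hN : 4 * Nat.card (Omega (ZMod 3) (quadFormOdd 3 (ZMod 3))) ≤ _ := (card_om_four (oddForm_nondeg 3 (by decide)) (by decide) (a := (mk7 (1, 0, 0, 0, 0, 0, 0))) (b := mk7 (0, 1, 0, 0, 2, 0, 0)) (by decide) (by decide)).trans cardO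
  exact iso_lines _ (omHom_inj _) tabOK hinv hS hS' hi x y hx hy ha hb hall 1 (c := 1) (by simp) (by
    rw [card, orderOf_one]; omega) cen

theorem iso {F : Type*} [Field F] [Fintype F] (hF : Fintype.card F = 3) :
    Nonempty (PG ≃* POmega F (quadFormOdd 3 F)) :=
  isoK.map fun e => e.symm.trans (centerQuotEquiv (commutatorEquiv (isoTrans
    (FiniteField.ringEquivOfCardEq ((ZMod.card 3).trans hF.symm)) fun u => by simp [quadFormOdd])))

end Cfsg.Agent.LieId.O73
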