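import Cfsg.Agent.Lib.LieId.Class
import Cfsg.Agent.Lib.Grp.O8p2.Main

set_option autoImplicit false
set_option maxRecDepth 100000
set_option Elab.async false

namespace Cfsg.Agent.LieId.O8p2

open Cfsg.Agent.CG Cfsg.Agent.CG.O8p2 Cfsg.Agent.Lin Cfsg.Agent.Id Cfsg.Agent.Forms Cfsg.Lie Matrix

noncomputable def vtT : ℕ := nat_lit 0xfe0fd0fb0f80f70f40f20f10ef0ee0e90e80e50e40e30e20df0dd0da0d80d60d40d30d10cb0ca0c90c80c70c60c50c40bf0bc0bb0b80b60b50b20b10ad0ac0a90a80a70a60a30a209e09c09a09809709509309108f08e08d08c08b08a08908807f07c07a07907707407207106d06c06b06a06506406306205e05c05b05905605405305104f04e04d04c04704604504403e03d03a03903603503203102f02e02b02a02702602302201f01d01b019017015013011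
noncomputable def vt (x : ℕ) : ℕ := Nat.land (Nat.shiftRight vtT (Nat.mul x 1)) 255
def la : List ℕ := [205,225,237,204,255,132,135,249]
def lb : List ℕ := [213,37,220,252,88,104,195,179]
def S : List (List ℕ) := [[1,2,4,8,16,32,64,128]]

theorem hi : chkInj Lin.c2 ((coF 4).sum (coF 4)) S 120 12 vt 0 120 = true := by decide +kernel

theorem ha : chkReal (Lin.c2.ad ((coF 4).sum (coF 4)).d) S 12 app vt 0 la 0 120 = true := by decide +kernel

theorem hb : chkReal (Lin.c2.ad ((coF 4).sum (coF 4)).d) S 12 app vt 2 lb 0 120 = true := by decide +kernel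

theorem hall : allLt (fun c => bor (memL c [0, 2]) (memL (inv c) [0, 2])) 4 = true := by decide +kernel

theorem cen : Subgroup.center PG = ⊥ :=
  center_eq_bot tabOK chain rfl (St := [20]) (b := 0) (by decide) (by decide +kernel)

theorem hS : ∀ s ∈ S, ∃ c : (ZMod 2), c ≠ 0 ∧ Ent Lin.c2 ((coF 4).sum (coF 4)) (c • 1) s := by decide +kernel

theorem hS' : ∀ c : (ZMod 2), c ≠ 0 → ∃ s ∈ S, Ent Lin.c2 ((coF 4).sum (coF 4)) (c • 1) s := by decide +kernel

theorem cardO : Nat.card (isometryGroup (ZMod 2) (quadFormPlus 4 (ZMod 2))) ≤ 348364800 :=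
  card_le_fixL (iso_step mk8 mk8_surj (mk8 (1, 0, 0, 0, 0, 0, 0, 0)) (m := 135) (by decide +kernel)
    (iso_step mk8 mk8_surj (mk8 (0, 0, 0, 0, 1, 0, 0, 0)) (m := 64) (by decide +kernel)
    (iso_step mk8 mk8_surj (mk8 (0, 1, 0, 0, 0, 0, 0, 0)) (m := 35) (by decide +kernel)
    (iso_step mk8 mk8_surj (mk8 (0, 0, 0, 0, 0, 1, 0, 0)) (m := 16) (by decide +kernel)
    (iso_step mk8 mk8_surj (mk8 (0, 0, 1, 0, 0, 0, 0, 0)) (m := 9) (by decide +kernel)
    (iso_step mk8 mk8_surj (mk8 (0, 0, 0, 0, 0, 0, 1, 0)) (m := 4) (by decide +kernel)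
    (iso_step mk8 mk8_surj (mk8 (0, 0, 0, 1, 0, 0, 0, 0)) (m := 2) (by decide +kernel)
    (iso_step mk8 mk8_surj (mk8 (0, 0, 0, 0, 0, 0, 0, 1)) (m := 1) (by decide +kernel)
    (iso_last (by decide +kernel))))))))))

theorem qla : ∀ t, (plusForm 4 (ZMod 2)).Q (matOf Lin.c2 ((coF 4).sum (coF 4)) la *ᵥ mk8 t) = (plusForm 4 (ZMod 2)).Q (mk8 t) := by decide +kernel

theorem qlb : ∀ t, (plusForm 4 (ZMod 2)).Q (matOf Lin.c2 ((coF 4).sum (coF 4)) lb *ᵥ mk8 t) = (plusForm 4 (ZMod 2)).Q (mk8 t) := by decide +kernel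

theorem isoK : Nonempty (POmega (ZMod 2) (quadFormPlus 4 (ZMod 2)) ≃* PG) := by
  obtain ⟨x, hx⟩ := exists_om (plusForm_nondeg 4) (by decide) mk8_surj (by exact (by decide +kernel)) 8 (by exact (by decide +kernel)) (by decide) qla
  obtain ⟨y, hy⟩ := exists_om (plusForm_nondeg 4) (by decide) mk8_surj (by exact (by decide +kernel)) 6 (by exact (by decide +kernel)) (by decide) qlb
  have hN : 2 * Nat.card (Omega (ZMod 2) (quadFormPlus 4 (ZMod 2))) ≤ _ := (card_om_two (plusForm_nondeg 4) (by decide) (a := mk8 (1, 0, 0, 0, 1, 0, 0, 0)) (by decide)).trans cardO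
  exact iso_lines _ (omHom_inj _) tabOK hinv hS hS' hi x y hx hy ha hb hall 1 (c := 1) (by simp) (by
    rw [card, orderOf_one]; omega) cen

theorem iso {F : Type*} [Field F] [Fintype F] (hF : Fintype.card F = 2) :
    Nonempty (PG ≃* POmega F (quadFormPlus 4 F)) :=
  isoK.map fun e => e.symm.trans (centerQuotEquiv (commutatorEquiv (isoTrans
    (FiniteField.ringEquivOfCardEq ((ZMod.card 2).trans hF.symm)) fun u => by simp [quadFormPlus])))

end Cfsg.Agent.LieId.O8p2
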