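import Cfsg.Agent.Lib.LieId.TF42
import Cfsg.Agent.Lib.Grp.Tits.Main

/-! Identification of the Tits group with its table permutation group. -/

set_option autoImplicit false
set_option maxRecDepth 100000

namespace Cfsg.Agent.LieId.Tits

open Cfsg.Agent.CG Cfsg.Agent.Lin Cfsg.Lie

theorem isoPG : Nonempty (commutator CG.TF42.PG ≃* CG.Tits.PG) :=
  comm_iso CG.TF42.tabOK CG.TF42.hinv CG.Tits.tabOK CG.Tits.hinv (a := 0) (b := 1) (x := 28) (y := 24)
    (u := 6) (v := 1) (by decide +kernel) (by decide +kernel) (by decide +kernel) (by rw [CG.TF42.card, CG.Tits.card])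

theorem iso : Nonempty (TitsGroup ≃* CG.Tits.PG) :=
  TF42.iso.elim fun e => isoPG.map fun e' =>
    MulEquiv.trans (M := commutator (twistedF4 (ZMod 2) 1)) (N := commutator CG.TF42.PG) (Forms.commutatorEquiv e) e'

end Cfsg.Agent.LieId.Tits
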